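import Cfsg.Agent.OreCover.Split
import Cfsg.Agent.OreCover.Factor

/-!
Every element of a perfect double cover of an alternating group is a commutator.
-/

set_option autoImplicit false

namespace CfsgLib.OreCover

open Equiv
open scoped commutatorElement

variable {α : Type*} [DecidableEq α] [Fintype α]

/-- A factorisation of a permutation into two even factors of one cycle type, the first of which
has two transpositions among its cycles. -/
def GoodFactor (σ : Perm α) : Prop :=
  ∃ a c : Perm α, Perm.sign a = 1 ∧ a * c = σ ∧ a.cycleType = c.cycleType ∧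
    ∃ p q u v : α, p ≠ q ∧ u ≠ v ∧ p ≠ u ∧ p ≠ v ∧ q ≠ u ∧ q ≠ v ∧
      a p = q ∧ a q = p ∧ a u = v ∧ a v = u

theorem involution_type {p : Perm α} (hp : p * p = 1) :
    ∃ k, p.cycleType = Multiset.replicate k 2 ∧ p.support.card = 2 * k := by
  have hk : p.cycleType = Multiset.replicate (Multiset.card p.cycleType) 2 := by
    refine Multiset.eq_replicate_card.2 fun a ha => ?_
    have h1 := Perm.two_le_of_mem_cycleType ha
    have h2 := Nat.le_of_dvd two_pos
      ((Perm.dvd_of_mem_cycleType ha).trans (orderOf_dvd_of_pow_eq_one (by rw [sq, hp])))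
    omega
  refine ⟨_, hk, ?_⟩
  conv_lhs => rw [← Perm.sum_cycleType, hk, Multiset.sum_replicate, smul_eq_mul]
  omega

theorem sign_replicate {p : Perm α} {k : ℕ} (h : p.cycleType = Multiset.replicate k 2) :
    Perm.sign p = (-1) ^ k := by
  rw [Perm.sign_of_cycleType, h, Multiset.sum_replicate, Multiset.card_replicate, smul_eq_mul,
    show k * 2 + k = 2 * k + k by omega, pow_add, pow_mul]
  simp

theorem two_transpositions {a : Perm α} (ha : a * a = 1) (hc : 4 ≤ a.support.card) :
    ∃ p q u v : α, p ≠ q ∧ u ≠ v ∧ p ≠ u ∧ p ≠ v ∧ q ≠ u ∧ q ≠ v ∧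
      a p = q ∧ a q = p ∧ a u = v ∧ a v = u := by
  have hinv : ∀ x, a (a x) = x := fun x => by rw [← Perm.mul_apply, ha, Perm.one_apply]
  obtain ⟨p, hp⟩ : a.support.Nonempty := Finset.card_pos.1 (by omega)
  have hle := Finset.card_le_two (a := p) (b := a p)
  obtain ⟨u, hu, hu'⟩ : ∃ u ∈ a.support, u ∉ ({p, a p} : Finset α) := by
    by_contra hcon
    push Not at hcon
    have := Finset.card_le_card (fun x hx => hcon x hx : a.support ⊆ {p, a p})
    omega
  simp only [Finset.mem_insert, Finset.mem_singleton, not_or] at hu'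
  refine ⟨p, a p, u, a u, (Perm.mem_support.1 hp).symm, (Perm.mem_support.1 hu).symm,
    Ne.symm hu'.1, fun e => hu'.2 ?_, Ne.symm hu'.2, fun e => hu'.1 (a.injective e).symm,
    rfl, hinv p, rfl, hinv u⟩
  rw [e, hinv]

/-- Enlarging an involution by a transposition with one common point. -/
theorem extend_involution {i : Perm α} (hi : i * i = 1) {v f : α} (hv : i v ≠ v) (hf : i f = f) :
    ∃ i' : Perm α, i' * i' = 1 ∧ i'.support.card + 2 = i.support.card ∧
      i * swap v f = i' * (swap (i v) v * swap v f) ∧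
      swap v f * i = (swap v f * swap (i v) v) * i' ∧
      i'.Disjoint (swap (i v) v * swap v f) ∧ i'.Disjoint (swap v f * swap (i v) v) ∧
      (swap (i v) v * swap v f).IsThreeCycle ∧ (swap v f * swap (i v) v).IsThreeCycle := by
  set u := i v with hu
  have hiu : i u = v := by rw [hu, ← Perm.mul_apply, hi, Perm.one_apply]
  have huf : u ≠ f := fun e => hv (by
    have : v = f := by rw [← hiu, e, hf]
    exact e.trans this.symm)
  have hvf : v ≠ f := fun e => hv (by rw [hu, e, hf])
  have hcomm : i * swap u v = swap u v * i := by rw [mul_swap_eq_swap_mul, hiu, ← hu, swap_comm]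
  have hfix : ∀ y, y = u ∨ y = v ∨ y = f → (i * swap u v) y = y := by
    rintro y (rfl | rfl | rfl)
    · simp [hu.symm]
    · simp [hiu]
    · simp [swap_apply_of_ne_of_ne huf.symm hvf.symm, hf]
  have hsup : (i * swap u v).support = i.support \ {u, v} := by
    ext y
    simp only [Perm.mem_support, Finset.mem_sdiff, Finset.mem_insert, Finset.mem_singleton, not_or]
    by_cases h1 : y = u
    · subst h1; exact iff_of_false (not_not.2 (hfix _ (Or.inl rfl))) (fun h => h.2.1 rfl)
    by_cases h2 : y = v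
    · subst h2; exact iff_of_false (not_not.2 (hfix _ (Or.inr (Or.inl rfl)))) (fun h => h.2.2 rfl)
    simp [swap_apply_of_ne_of_ne h1 h2, h1, h2]
  have hd : ∀ w, (∀ y, y ≠ u → y ≠ v → y ≠ f → w y = y) → (i * swap u v).Disjoint w := by
    intro w hw y
    by_cases h : y = u ∨ y = v ∨ y = f
    · exact Or.inl (hfix y h)
    · simp only [not_or] at h; exact Or.inr (hw y h.1 h.2.1 h.2.2)
  refine ⟨i * swap u v, ?_, ?_, ?_, ?_, hd _ ?_, hd _ ?_, ?_, ?_⟩
  · calc i * swap u v * (i * swap u v) = i * (swap u v * i) * swap u v := by group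
      _ = i * (i * swap u v) * swap u v := by rw [hcomm]
      _ = (i * i) * (swap u v * swap u v) := by group
      _ = 1 := by rw [hi, swap_mul_self, one_mul]
  · have hsub : ({u, v} : Finset α) ⊆ i.support := by
      intro y hy
      simp only [Finset.mem_insert, Finset.mem_singleton] at hy
      rcases hy with rfl | rfl
      · rw [Perm.mem_support, hiu]; exact fun e => hv e.symm
      · exact Perm.mem_support.2 hv
    rw [hsup, Finset.card_sdiff_of_subset hsub]
    have h2 : ({u, v} : Finset α).card = 2 := Finset.card_pair hv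
    have := Finset.card_le_card hsub
    omega
  · rw [mul_assoc, ← mul_assoc (swap u v), swap_mul_self, one_mul]
  · rw [mul_assoc, hcomm, ← mul_assoc (swap u v), swap_mul_self, one_mul]
  · intro y h1 h2 h3
    simp [swap_apply_of_ne_of_ne h2 h3, swap_apply_of_ne_of_ne h1 h2]
  · intro y h1 h2 h3
    simp [swap_apply_of_ne_of_ne h2 h3, swap_apply_of_ne_of_ne h1 h2]
  · rw [swap_comm u v]
    exact Perm.isThreeCycle_swap_mul_swap_same (Ne.symm hv) hvf huf
  · rw [swap_comm u v]
    exact Perm.isThreeCycle_swap_mul_swap_same hvf (Ne.symm hv) huf.symm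

theorem outside_pair {σ : Perm α} (hσ : σ.support.card ≤ 3) (hn : 5 ≤ Fintype.card α) :
    ∃ x y, x ≠ y ∧ x ∉ σ.support ∧ y ∉ σ.support := by
  have : 1 < (σ.supportᶜ).card := by rw [Finset.card_compl]; omega
  obtain ⟨x, hx, y, hy, hxy⟩ := Finset.one_lt_card.1 this
  exact ⟨x, y, hxy, Finset.mem_compl.1 hx, Finset.mem_compl.1 hy⟩

theorem good_small {a b c d : α} (hab : a ≠ b) (hcd : c ≠ d)
    (hne : ({a, b} : Finset α) ≠ {c, d}) (hn : 5 ≤ Fintype.card α) :
    GoodFactor (swap a b * swap c d) := by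
  classical
  by_cases hd : a ≠ c ∧ a ≠ d ∧ b ≠ c ∧ b ≠ d
  · obtain ⟨hac, had, hbc, hbd⟩ := hd
    refine ⟨swap a c * swap b d, swap a d * swap b c, ?_, ?_, ?_, a, c, b, d, hac, hbd, hab, had,
      hbc.symm, hcd, ?_, ?_, ?_, ?_⟩
    · exact (isDouble_swap_mul_swap hac hbd hab had hbc.symm hcd).sign
    · refine Perm.ext fun y => ?_
      simp only [Perm.mul_apply, swap_apply_def]
      split_ifs <;> simp_all
    · exact (isDouble_swap_mul_swap hac hbd hab had hbc.symm hcd).trans
        (isDouble_swap_mul_swap had hbc hab hac hbd.symm hcd.symm).symm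
    · simp [swap_apply_of_ne_of_ne, hab, had]
    · simp [swap_apply_of_ne_of_ne, hbc.symm, hcd]
    · simp [swap_apply_of_ne_of_ne, had.symm, hcd.symm]
    · simp [swap_apply_of_ne_of_ne, hab.symm, hbc]
  · obtain ⟨x, y, hxy, hx, hy⟩ : ∃ x y, x ≠ y ∧ x ∉ ({a, b, c, d} : Finset α) ∧
        y ∉ ({a, b, c, d} : Finset α) := by
      have h3 : ({a, b, c, d} : Finset α).card ≤ 3 := by
        simp only [not_and_or, not_not] at hd
        rcases hd with rfl | rfl | rfl | rfl
        · refine (Finset.card_le_card (t := {a, b, d}) ?_).trans Finset.card_le_three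
          intro w; simp <;> tauto
        · refine (Finset.card_le_card (t := {a, b, c}) ?_).trans Finset.card_le_three
          intro w; simp <;> tauto
        · refine (Finset.card_le_card (t := {a, b, d}) ?_).trans Finset.card_le_three
          intro w; simp <;> tauto
        · refine (Finset.card_le_card (t := {a, b, c}) ?_).trans Finset.card_le_three
          intro w; simp <;> tauto
      have : 1 < (({a, b, c, d} : Finset α)ᶜ).card := by rw [Finset.card_compl]; omega
      obtain ⟨x, hx, y, hy, hxy⟩ := Finset.one_lt_card.1 this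
      exact ⟨x, y, hxy, Finset.mem_compl.1 hx, Finset.mem_compl.1 hy⟩
    simp only [Finset.mem_insert, Finset.mem_singleton, not_or] at hx hy
    obtain ⟨hxa, hxb, hxc, hxd⟩ := hx
    obtain ⟨hya, hyb, hyc, hyd⟩ := hy
    refine ⟨swap a b * swap x y, swap x y * swap c d, ?_, ?_, ?_, a, b, x, y, hab, hxy, Ne.symm hxa,
      Ne.symm hya, Ne.symm hxb, Ne.symm hyb, ?_, ?_, ?_, ?_⟩
    · exact (isDouble_swap_mul_swap hab hxy (Ne.symm hxa) (Ne.symm hya) (Ne.symm hxb)
        (Ne.symm hyb)).sign
    · rw [mul_assoc, ← mul_assoc (swap x y), swap_mul_self, one_mul]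
    · exact (isDouble_swap_mul_swap hab hxy (Ne.symm hxa) (Ne.symm hya) (Ne.symm hxb)
        (Ne.symm hyb)).trans
        (isDouble_swap_mul_swap hxy hcd hxc hxd hyc hyd).symm
    · simp [swap_apply_of_ne_of_ne, Ne.symm hxa, Ne.symm hya]
    · simp [swap_apply_of_ne_of_ne, Ne.symm hxb, Ne.symm hyb]
    · simp [swap_apply_of_ne_of_ne, hya, hyb]
    · simp [swap_apply_of_ne_of_ne, hxa, hxb]

theorem goodFactor {σ : Perm α} (hn : 5 ≤ Fintype.card α) (hσ : Perm.sign σ = 1) (h1 : σ ≠ 1) :
    GoodFactor σ := by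
  obtain ⟨i, j, h⟩ := exists_invPair σ
  obtain ⟨k, hk, hkc⟩ := involution_type h.inv_left
  obtain ⟨l, hl, hlc⟩ := involution_type h.inv_right
  have hkl : k = l := by
    have := h.le_left; have := h.le_right
    by_contra hne
    rw [← h.prod, map_mul, sign_replicate hk, sign_replicate hl, ← pow_add] at hσ
    have hodd : Odd (k + l) := ⟨min k l, by omega⟩
    rw [hodd.neg_one_pow] at hσ
    exact absurd hσ (by decide)
  subst hkl
  have hne := h.ne_supp h1
  rcases Nat.even_or_odd k with hev | hodd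
  · have hk0 : k ≠ 0 := by
      rintro rfl
      exact hne (by rw [Finset.card_eq_zero.1 hkc, Finset.card_eq_zero.1 hlc])
    refine ⟨i, j, by rw [sign_replicate hk, hev.neg_one_pow], h.prod, hk.trans hl.symm,
      two_transpositions h.inv_left ?_⟩
    obtain ⟨c, rfl⟩ := hev
    omega
  · by_cases hk1 : k = 1
    · subst hk1
      obtain ⟨a, b, hab, rfl⟩ := Perm.card_support_eq_two.1 hkc
      obtain ⟨c, d, hcd, rfl⟩ := Perm.card_support_eq_two.1 hlc
      rw [← h.prod]
      rw [Perm.support_swap hab, Perm.support_swap hcd] at hne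
      exact good_small hab hcd hne hn
    obtain ⟨v, hvi, hvj⟩ : ∃ v, v ∈ i.support ∧ v ∉ j.support := by
      by_contra hcon
      push Not at hcon
      exact hne (Finset.eq_of_subset_of_card_le hcon (by omega))
    obtain ⟨f, hfj, hfi⟩ : ∃ f, f ∈ j.support ∧ f ∉ i.support := by
      by_contra hcon
      push Not at hcon
      exact hne (Finset.eq_of_subset_of_card_le hcon (by omega)).symm
    rw [Perm.mem_support] at hvi hfj
    rw [Perm.notMem_support] at hvj hfi
    obtain ⟨i', hi2, hic, ei, -, di, -, ti, -⟩ := extend_involution h.inv_left hvi hfi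
    obtain ⟨j', hj2, hjc, -, ej, -, dj, -, tj⟩ := extend_involution h.inv_right hfj hvj
    rw [swap_comm f v] at ej dj tj
    obtain ⟨k', hk', hk'c⟩ := involution_type hi2
    obtain ⟨l', hl', hl'c⟩ := involution_type hj2
    obtain rfl : l' = k' := by omega
    have hev : Even l' := by
      obtain ⟨c, rfl⟩ := hodd
      exact ⟨c, by omega⟩
    refine ⟨i * swap v f, swap v f * j, ?_, ?_, ?_, ?_⟩
    · rw [ei, map_mul, sign_replicate hk', hev.neg_one_pow, one_mul, ti.sign]
    · rw [mul_assoc, ← mul_assoc (swap v f), swap_mul_self, one_mul, h.prod]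
    · rw [ei, ej, di.cycleType_mul, dj.symm.cycleType_mul, hk', hl', ti.cycleType, tj.cycleType,
        add_comm]
    · have hc4 : 4 ≤ i'.support.card := by
        obtain ⟨c, rfl⟩ := hev
        obtain ⟨e, he⟩ := hodd
        omega
      obtain ⟨p, q, u, w, n1, n2, n3, n4, n5, n6, e1, e2, e3, e4⟩ := two_transpositions hi2 hc4
      have key : ∀ y z, y ≠ z → i' y = z → (i * swap v f) y = z := by
        intro y z hne e
        rw [ei, Perm.mul_apply, (di y).resolve_left (by rw [e]; exact hne.symm), e]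
      exact ⟨p, q, u, w, n1, n2, n3, n4, n5, n6, key p q n1 e1, key q p n1.symm e2,
        key u w n2 e3, key w u n2.symm e4⟩

variable {Γ : Type*} [Group Γ] {n : ℕ} {q : Γ →* Perm (Fin n)} {z : Γ}

/-- A lift of an even permutation fixing the four points commutes with the lift of the double
transposition. -/
theorem IsDoubleExt.commute_lift (h : IsDoubleExt q z) {s : Perm (Fin n)} {x : Γ} (hx : q x = s)
    {S : Finset (Fin n)} (hS : ∀ y, y ∉ S → s y = y) {r : Perm (Fin n)} (hr : Perm.sign r = 1)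
    (hrS : ∀ y ∈ S, r y = y) {w : Γ} (hw : q w = r) : w * x = x * w := by
  classical
  let P : Fin n → Prop := fun y => y ∉ S
  have hcl : ∀ r' : Perm (Subtype P), r' ∈ alternatingGroup (Subtype P) →
      ∀ w : Γ, q w = Perm.ofSubtype r' → w * x = x * w := by
    intro r' hr'
    rw [← Perm.closure_three_cycles_eq_alternating] at hr'
    induction hr' using Subgroup.closure_induction with
    | mem t ht =>
      intro w hw
      have hcom : q w * q x = q x * q w := by
        rw [hw, hx]
        refine Perm.Disjoint.commute (fun y => ?_)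
        by_cases hy : P y
        · exact Or.inr (hS y hy)
        · exact Or.inl (Perm.ofSubtype_apply_of_not_mem t hy)
      rcases h.eq_or_mul (show q (w * x * w⁻¹) = q x by
        rw [map_mul, map_mul, map_inv, hcom, mul_inv_cancel_right]) with e | e
      · exact mul_inv_eq_iff_eq_mul.1 e
      · exfalso
        have hzc := h.comm_z
        have e2 : w * (w * x * w⁻¹) * w⁻¹ = x := by
          rw [e, ← mul_assoc, hzc w, mul_assoc z w x, mul_assoc z (w * x), e, ← mul_assoc, h.z_sq,
            one_mul]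
        have e3 : w * (w * (w * x * w⁻¹) * w⁻¹) * w⁻¹ = z * x := by rw [e2, e]
        have hw3 : w * w * w ∈ Subgroup.center Γ := h.ext.central (by
          rw [MonoidHom.mem_ker, map_mul, map_mul, hw, ← map_mul, ← map_mul]
          have : t ^ 3 = 1 := by rw [← ht.orderOf]; exact pow_orderOf_eq_one t
          rw [pow_succ, sq] at this
          rw [this, map_one])
        have e4 : w * (w * (w * x * w⁻¹) * w⁻¹) * w⁻¹ = x := by
          calc _ = (w * w * w) * x * (w * w * w)⁻¹ := by group
            _ = x := by rw [← Subgroup.mem_center_iff.1 hw3 x, mul_inv_cancel_right]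
        exact h.z_ne (mul_eq_right.1 (e3.symm.trans e4))
    | one =>
      intro w hw
      rw [map_one] at hw
      exact (Subgroup.mem_center_iff.1 (h.ext.central (MonoidHom.mem_ker.2 hw)) x).symm
    | mul a b ha hb iha ihb =>
      intro w hw
      rw [Perm.closure_three_cycles_eq_alternating, Perm.mem_alternatingGroup] at ha
      obtain ⟨wa, hwa⟩ := h.ext.exists_lift (show Perm.sign (Perm.ofSubtype a) = 1 by
        rw [Perm.sign_ofSubtype, ha])
      have e1 := iha wa hwa
      have e2 := ihb (wa⁻¹ * w) (by rw [map_mul, map_inv, hwa, hw, map_mul, inv_mul_cancel_left])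
      calc w * x = wa * ((wa⁻¹ * w) * x) := by group
        _ = (wa * x) * (wa⁻¹ * w) := by rw [e2]; group
        _ = x * w := by rw [e1]; group
    | inv a ha iha =>
      intro w hw
      have e := iha w⁻¹ (by rw [map_inv, hw, map_inv, inv_inv])
      calc w * x = w * (x * w⁻¹) * w := by group
        _ = w * (w⁻¹ * x) * w := by rw [e]
        _ = x * w := by group
  have hmem : ∀ y, r y ∉ S ↔ y ∉ S := fun y => not_congr
    ⟨fun hy => by
      have := hrS _ hy
      rw [EmbeddingLike.apply_eq_iff_eq] at this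
      rwa [this] at hy,
     fun hy => by rw [hrS y hy]; exact hy⟩
  refine hcl (Perm.subtypePerm r hmem) ?_ w ?_
  · rw [Perm.mem_alternatingGroup, Perm.sign_subtypePerm, hr]
    intro y hy hyS
    exact hy (hrS y hyS)
  · rw [hw, Perm.ofSubtype_subtypePerm]
    intro y hy hyS
    exact hy (hrS y hyS)

theorem IsDoubleExt.exists_flip (h : IsDoubleExt q z) {a : Perm (Fin n)} (ha : Perm.sign a = 1)
    {p p' u u' : Fin n} (n1 : p ≠ p') (n2 : u ≠ u') (n3 : p ≠ u) (n4 : p ≠ u') (n5 : p' ≠ u)
    (n6 : p' ≠ u') (e1 : a p = p') (e2 : a p' = p) (e3 : a u = u') (e4 : a u' = u)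
    {A : Γ} (hA : q A = a) : ∃ x : Γ, A * x = z * (x * A) := by
  have h0 : IsDouble (swap p p' * swap u u') := isDouble_swap_mul_swap n1 n2 n3 n4 n5 n6
  have hs : IsDouble (swap p u * swap p' u') :=
    isDouble_swap_mul_swap n3 n6 n1 n4 n5.symm n2
  have hprod : IsDouble ((swap p p' * swap u u') * (swap p u * swap p' u')) := by
    have : (swap p p' * swap u u') * (swap p u * swap p' u') = swap p u' * swap p' u := by
      refine Perm.ext fun y => ?_
      simp only [Perm.mul_apply, swap_apply_def]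
      split_ifs <;> simp_all
    rw [this]
    exact isDouble_swap_mul_swap n4 n5 n1 n3 n6.symm n2.symm
  obtain ⟨x, hx⟩ := h.ext.exists_lift hs.sign
  obtain ⟨y, hy⟩ := h.ext.exists_lift h0.sign
  set R := y⁻¹ * A with hR
  have hRS : ∀ t ∈ ({p, p', u, u'} : Finset (Fin n)), q R t = t := by
    intro t ht
    rw [hR, map_mul, map_inv, hy, hA, Perm.mul_apply, Perm.inv_eq_iff_eq]
    simp only [Finset.mem_insert, Finset.mem_singleton] at ht
    rcases ht with rfl | rfl | rfl | rfl <;>
      simp [e1, e2, e3, e4, swap_apply_of_ne_of_ne, n3, n4, n5, n6, n3.symm, n4.symm, n5.symm,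
        n6.symm]
  have hRx : R * x = x * R := by
    refine h.commute_lift hx (S := {p, p', u, u'}) ?_ ?_ hRS rfl
    · intro t ht
      simp only [Finset.mem_insert, Finset.mem_singleton, not_or] at ht
      simp [swap_apply_of_ne_of_ne ht.1 ht.2.2.1, swap_apply_of_ne_of_ne ht.2.1 ht.2.2.2]
    · rw [hR, map_mul, map_inv, hy, hA, map_mul, map_inv, h0.sign, ha, inv_one, one_mul]
  have hyx : y * x = z * (x * y) :=
    h.anticomm (by have := p.2; have := p'.2; have := Fin.val_ne_of_ne n1; omega) (hy ▸ h0) (hx ▸ hs)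
      (by rw [hy, hx]; exact hprod)
  refine ⟨x, ?_⟩
  have hAe : A = y * R := by rw [hR, mul_inv_cancel_left]
  calc A * x = y * (R * x) := by rw [hAe, mul_assoc]
    _ = (y * x) * R := by rw [hRx, mul_assoc]
    _ = z * (x * A) := by rw [hyx, hAe]; simp only [mul_assoc]

theorem IsDoubleExt.flip_mul (h : IsDoubleExt q z) {A B x : Γ} (hx : A * x = z * (x * A)) :
    A * (B * x) * A⁻¹ * (B * x)⁻¹ = z * (A * B * A⁻¹ * B⁻¹) := by
  have e : A * x * A⁻¹ * x⁻¹ = z := by rw [hx]; group
  calc A * (B * x) * A⁻¹ * (B * x)⁻¹ = (A * B * A⁻¹) * ((A * x * A⁻¹ * x⁻¹)) * B⁻¹ := by group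
    _ = z * (A * B * A⁻¹ * B⁻¹) := by rw [e, h.comm_z]; simp only [mul_assoc]

/-- Every element is a commutator. -/
theorem IsDoubleExt.exists_commutator (h : IsDoubleExt q z) (hn : 5 ≤ n) (g : Γ) :
    ∃ a b : Γ, a * b * a⁻¹ * b⁻¹ = g := by
  by_cases h1 : q g = 1
  · rcases h.ker_le g h1 with rfl | rfl
    · exact ⟨1, 1, by simp⟩
    · let p : Fin n := ⟨0, by omega⟩
      let p' : Fin n := ⟨1, by omega⟩
      let u : Fin n := ⟨2, by omega⟩
      let u' : Fin n := ⟨3, by omega⟩
      have n1 : p ≠ p' := by simp [p, p']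
      have n2 : u ≠ u' := by simp [u, u']
      have n3 : p ≠ u := by simp [p, u]
      have n4 : p ≠ u' := by simp [p, u']
      have n5 : p' ≠ u := by simp [p', u]
      have n6 : p' ≠ u' := by simp [p', u']
      have h0 := isDouble_swap_mul_swap n1 n2 n3 n4 n5 n6
      obtain ⟨A, hA⟩ := h.ext.exists_lift h0.sign
      obtain ⟨x, hx⟩ := h.exists_flip h0.sign n1 n2 n3 n4 n5 n6
        (by simp [swap_apply_of_ne_of_ne n3 n4]) (by simp [swap_apply_of_ne_of_ne n5 n6])
        (by simp [swap_apply_of_ne_of_ne n4.symm n6.symm])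
        (by simp [swap_apply_of_ne_of_ne n3.symm n5.symm]) hA
      exact ⟨A, x, by rw [hx]; group⟩
  have hsg : Perm.sign (q g) = 1 :=
    Perm.mem_alternatingGroup.1 (h.ext.range ▸ MonoidHom.mem_range.2 ⟨g, rfl⟩)
  obtain ⟨a, c, hsa, hac, hct, p, p', u, u', n1, n2, n3, n4, n5, n6, e1, e2, e3, e4⟩ :=
    goodFactor (by rw [Fintype.card_fin]; exact hn) hsg h1
  obtain ⟨b₀, hb₀⟩ := isConj_iff.1
    (Perm.isConj_iff_cycleType_eq.2 (show a⁻¹.cycleType = c.cycleType by rw [Perm.cycleType_inv, hct]))
  obtain ⟨b, hb, hbc⟩ : ∃ b, Perm.sign b = 1 ∧ b * a⁻¹ * b⁻¹ = c := by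
    rcases Int.units_eq_one_or (Perm.sign b₀) with e | e
    · exact ⟨b₀, e, hb₀⟩
    · refine ⟨b₀ * swap p p', by rw [map_mul, Perm.sign_swap n1, e]; rfl, ?_⟩
      have hc : a * swap p p' = swap p p' * a := by rw [mul_swap_eq_swap_mul, e1, e2, swap_comm]
      calc b₀ * swap p p' * a⁻¹ * (b₀ * swap p p')⁻¹
          = b₀ * (swap p p' * a⁻¹ * (swap p p')⁻¹) * b₀⁻¹ := by group
        _ = b₀ * a⁻¹ * b₀⁻¹ := by
          rw [show swap p p' * a⁻¹ = a⁻¹ * swap p p' from
            (Commute.inv_left hc).eq.symm, mul_inv_cancel_right]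
        _ = c := hb₀
  obtain ⟨A, hA⟩ := h.ext.exists_lift hsa
  obtain ⟨B, hB⟩ := h.ext.exists_lift hb
  have hq : q g = q (A * B * A⁻¹ * B⁻¹) := by
    simp only [map_mul, map_inv, hA, hB]
    rw [← hac, ← hbc]; simp only [mul_assoc]
  rcases h.eq_or_mul hq with e | e
  · exact ⟨A, B, e.symm⟩
  · obtain ⟨x, hx⟩ := h.exists_flip hsa n1 n2 n3 n4 n5 n6 e1 e2 e3 e4 hA
    exact ⟨A, B * x, by rw [h.flip_mul hx, e]⟩

end CfsgLib.OreCover
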