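import Cfsg.Agent.AltCover.Split

/-!
In a perfect double cover of an alternating group the lifts of double transpositions square to
the central involution, so commuting double transpositions with double transposition product lift
to anticommuting elements.
-/

set_option autoImplicit false

namespace CfsgLib.OreCover

open Equiv CfsgLib.AltCover
open scoped Pointwise commutatorElement

/-- Double transpositions. -/
def IsDouble {α : Type*} [DecidableEq α] [Fintype α] (s : Perm α) : Prop :=
  s.cycleType = {2, 2}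

variable {α : Type*} [DecidableEq α] [Fintype α]

theorem isDouble_swap_mul_swap {p q u v : α} (hpq : p ≠ q) (huv : u ≠ v) (hpu : p ≠ u)
    (hpv : p ≠ v) (hqu : q ≠ u) (hqv : q ≠ v) : IsDouble (swap p q * swap u v) := by
  have hd : Perm.Disjoint (swap p q) (swap u v) := fun x => by
    by_cases hxp : x = p
    · right; rw [hxp]; exact swap_apply_of_ne_of_ne hpu hpv
    by_cases hxq : x = q
    · right; rw [hxq]; exact swap_apply_of_ne_of_ne hqu hqv
    · left; exact swap_apply_of_ne_of_ne hxp hxq
  rw [IsDouble, hd.cycleType_mul, (Perm.isCycle_swap hpq).cycleType,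
    (Perm.isCycle_swap huv).cycleType, Perm.card_support_swap hpq, Perm.card_support_swap huv]
  rfl

theorem IsDouble.sign {s : Perm α} (h : IsDouble s) : Perm.sign s = 1 := by
  rw [Perm.sign_of_cycleType, h]; rfl

theorem IsDouble.mul_self {s : Perm α} (h : IsDouble s) : s * s = 1 := by
  have : orderOf s = 2 := by
    rw [← Perm.lcm_cycleType, h]; rfl
  rw [← sq, ← this, pow_orderOf_eq_one]

variable {Γ : Type*} [Group Γ] {n : ℕ}

/-- The setting: a double cover. -/
structure IsDoubleExt (q : Γ →* Perm (Fin n)) (z : Γ) : Prop where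
  ext : IsExt q
  ker_le : ∀ g ∈ q.ker, g = 1 ∨ g = z
  z_mem : z ∈ q.ker
  z_sq : z * z = 1
  z_ne : z ≠ 1
  perfect : commutator Γ = ⊤

variable {q : Γ →* Perm (Fin n)} {z : Γ}

namespace IsDoubleExt

theorem comm_z (h : IsDoubleExt q z) (g : Γ) : g * z = z * g :=
  Subgroup.mem_center_iff.1 (h.ext.central h.z_mem) g

theorem eq_or_mul (h : IsDoubleExt q z) {x y : Γ} (e : q x = q y) : x = y ∨ x = z * y := by
  rcases h.ker_le (x * y⁻¹) (by rw [MonoidHom.mem_ker, map_mul, map_inv, e, mul_inv_cancel]) with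
    e' | e'
  · exact Or.inl (mul_inv_eq_one.1 e')
  · exact Or.inr (mul_inv_eq_iff_eq_mul.1 e')

theorem sq_congr (h : IsDoubleExt q z) {x y : Γ} (e : q x = q y) : x * x = y * y := by
  rcases h.eq_or_mul e with rfl | rfl
  · rfl
  · rw [mul_assoc z y, ← mul_assoc y z, h.comm_z y, mul_assoc z y, ← mul_assoc z z, h.z_sq, one_mul]

/-- All lifts of double transpositions have the same square. -/
theorem sq_eq_sq (h : IsDoubleExt q z) {x y : Γ} (hx : IsDouble (q x)) (hy : IsDouble (q y)) :
    x * x = y * y := by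
  obtain ⟨c, hc⟩ := isConj_iff.1 (Perm.isConj_iff_cycleType_eq.2 (hx.trans hy.symm))
  obtain ⟨d, hd, hdy⟩ : ∃ d, Perm.sign d = 1 ∧ d * q x * d⁻¹ = q y := by
    rcases Int.units_eq_one_or (Perm.sign c) with e | e
    · exact ⟨c, e, hc⟩
    · have h2 : (q y).cycleType = {2, 2} := hy
      obtain ⟨p, hp⟩ : (q y).support.Nonempty := by
        rw [← Finset.card_pos, ← Perm.sum_cycleType, h2]
        decide
      rw [Perm.mem_support] at hp
      refine ⟨swap p (q y p) * c, ?_, ?_⟩
      · rw [map_mul, Perm.sign_swap hp.symm, e]; rfl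
      · have hpp : q y (q y p) = p := by
          rw [← Perm.mul_apply, hy.mul_self, Perm.one_apply]
        have e2 : q y * swap p (q y p) = swap p (q y p) * q y := by
          rw [mul_swap_eq_swap_mul, hpp, swap_comm]
        calc swap p (q y p) * c * q x * (swap p (q y p) * c)⁻¹
            = swap p (q y p) * (c * q x * c⁻¹) * (swap p (q y p))⁻¹ := by group
          _ = swap p (q y p) * q y * (swap p (q y p))⁻¹ := by rw [hc]
          _ = q y := by rw [← e2, mul_inv_cancel_right]
  obtain ⟨D, hD⟩ := h.ext.exists_lift hd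
  have e1 : y * y = (D * x * D⁻¹) * (D * x * D⁻¹) :=
    h.sq_congr (by rw [map_mul, map_mul, map_inv, hD, hdy])
  have hxx : x * x ∈ Subgroup.center Γ := h.ext.central (by
    rw [MonoidHom.mem_ker, map_mul, hx.mul_self])
  rw [e1, show D * x * D⁻¹ * (D * x * D⁻¹) = D * (x * x) * D⁻¹ by group,
    Subgroup.mem_center_iff.1 hxx D, mul_inv_cancel_right]

theorem isDouble_sgen {m i : ℕ} (hi : 1 ≤ i) (him : i < m) : IsDouble (sgen (m + 2) i) := by
  rw [sgen, tau, dif_pos (by omega), tau, dif_pos (by omega)]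
  apply isDouble_swap_mul_swap <;> simp [Fin.ext_iff] <;> omega

theorem isDouble_sgen_mul {m i j : ℕ} (hi : 1 ≤ i) (hij : i + 1 < j) (hjm : j < m) :
    IsDouble (sgen (m + 2) i * sgen (m + 2) j) := by
  have hc : tau (m + 2) 0 * tau (m + 2) (i + 1) = tau (m + 2) (i + 1) * tau (m + 2) 0 := by
    rw [tau, dif_pos (by omega), tau, dif_pos (by omega)]
    refine Perm.Disjoint.commute (fun x => ?_)
    rcases x with ⟨x, hx⟩
    by_cases hx0 : x < 2
    · right
      apply swap_apply_of_ne_of_ne <;> simp [Fin.ext_iff] <;> omega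
    · left
      apply swap_apply_of_ne_of_ne <;> simp [Fin.ext_iff] <;> omega
  have h0 : tau (m + 2) 0 * tau (m + 2) 0 = 1 := by
    rw [tau, dif_pos (by omega)]; exact swap_mul_self _ _
  have e : sgen (m + 2) i * sgen (m + 2) j = tau (m + 2) (i + 1) * tau (m + 2) (j + 1) := by
    simp only [sgen]
    rw [hc, mul_assoc, ← mul_assoc (tau (m + 2) 0), h0, one_mul]
  rw [e, tau, dif_pos (by omega), tau, dif_pos (by omega)]
  apply isDouble_swap_mul_swap <;> simp [Fin.ext_iff] <;> omega

/-- If the lifts of double transpositions are involutions then the extension splits. -/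
theorem exists_complement {m : ℕ} {q : Γ →* Perm (Fin (m + 2))} (h : IsDoubleExt q z)
    (hinv : ∀ g, IsDouble (q g) → g * g = 1) : ∃ L : Subgroup Γ, q.ker.IsComplement' L := by
  classical
  have hcube : ∀ g : Γ, q g ^ 3 = 1 → g ^ 3 = 1 ∨ (z * g) ^ 3 = 1 := by
    intro g hg
    rcases h.ker_le _ (show g ^ 3 ∈ q.ker by rw [MonoidHom.mem_ker, map_pow, hg]) with e | e
    · exact Or.inl e
    · refine Or.inr ?_
      rw [Commute.mul_pow (h.comm_z g).symm 3, e, pow_succ, sq, h.z_sq, one_mul, h.z_sq]
  have hr := Cfsg.Agent.S3335.carRel_adjSwap m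
  have hs : ∀ i : ℕ, i < m → ∃ y, q y = sgen (m + 2) i := fun i hi =>
    h.ext.exists_lift (sign_sgen (by omega))
  choose y hy using hs
  let step : Γ → Γ → Γ := fun prev w => if (prev * w) ^ 3 = 1 then w else z * w
  let X : Γ := if h0 : 0 < m then (if (y 0 h0) ^ 3 = 1 then y 0 h0 else z * y 0 h0) else 1
  let F : ℕ → Γ := fun k => Nat.rec (motive := fun _ => Γ) X
    (fun k prev => if hk : k + 1 < m then step prev (y (k + 1) hk) else 1) k
  have hqF : ∀ i, i < m → q (F i) = sgen (m + 2) i := by
    intro i hi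
    have hz1 : ∀ g, q (z * g) = q g := fun g => by
      rw [map_mul, MonoidHom.mem_ker.1 h.z_mem, one_mul]
    rcases i with _ | k
    · show q X = _
      simp only [X, dif_pos hi]; split <;> simp [hz1, hy]
    · show q (if hk : k + 1 < m then step (F k) (y (k + 1) hk) else 1) = _
      rw [dif_pos hi]
      simp only [step]; split <;> simp [hz1, hy]
  have rel := fun i j => hr.adj i j
  simp only [← tau_eq_adjSwap] at rel
  have rel3 := hr.three
  simp only [← tau_eq_adjSwap] at rel3
  have hF0 : 0 < m → F 0 ^ 3 = 1 := by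
    intro h0
    show X ^ 3 = 1
    simp only [X, dif_pos h0]
    split
    · assumption
    · next hne => exact ((hcube _ (by rw [hy]; exact rel3 ⟨0, h0⟩ rfl)).resolve_left hne)
  have hadj : ∀ i, i + 1 < m → (F i * F (i + 1)) ^ 3 = 1 := by
    intro i hi
    show (F i * (if hk : i + 1 < m then step (F i) (y (i + 1) hk) else 1)) ^ 3 = 1
    rw [dif_pos hi]
    simp only [step]
    split
    · assumption
    · next hne =>
      have h' := (hcube (F i * y (i + 1) hi) (by
        rw [map_mul, hqF i (by omega), hy]; exact rel ⟨i, by omega⟩ ⟨i + 1, hi⟩ rfl)).resolve_left hne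
      rwa [← mul_assoc, h.comm_z, mul_assoc]
  let s : Fin m → Γ := fun i => F i
  have hrel : Cfsg.Agent.S3335.CarRel s := by
    refine ⟨fun i hi => ?_, fun i hi => ?_, fun i j hij => ?_, fun i j hij => ?_⟩
    · simp only [s, hi]; exact hF0 (hi ▸ i.2)
    · rw [sq]
      exact hinv _ (by rw [hqF i i.2]; exact isDouble_sgen hi i.2)
    · simp only [s, hij]; exact hadj i (hij ▸ j.2)
    · rw [sq]
      by_cases hi : 1 ≤ (i : ℕ)
      · exact hinv _ (by rw [map_mul, hqF i i.2, hqF j j.2]; exact isDouble_sgen_mul hi hij j.2)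
      · have hi0 : (i : ℕ) = 0 := by omega
        refine hinv _ ?_
        rw [map_mul, hqF i i.2, hqF j j.2, hi0]
        simp only [sgen]
        rw [tau, dif_pos (by omega), tau, dif_pos (by omega), tau, dif_pos (by omega)]
        have e : ∀ (a b c : Fin (m + 2)) (t : Perm (Fin (m + 2))), a ≠ b → b ≠ c → a ≠ c →
            swap a b * swap b c * (swap a b * t) = swap a c * t := by
          intro a b c t hab hbc hac
          have e1 : swap a b * swap b c * swap a b = swap a c := by
            have := Equiv.swap_apply_apply (swap a b) b c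
            rw [swap_apply_right, swap_apply_of_ne_of_ne hac.symm hbc.symm, swap_inv] at this
            exact this.symm
          rw [← mul_assoc, e1]
        rw [e _ _ _ _ (by simp [Fin.ext_iff]) (by simp [Fin.ext_iff]) (by simp [Fin.ext_iff])]
        apply isDouble_swap_mul_swap <;> simp [Fin.ext_iff] <;> omega
  let f : PresentedGroup (Cfsg.Agent.S3335.carRels m) →* Γ :=
    PresentedGroup.toGroup (Cfsg.Agent.S3335.lift_of_carRel hrel)
  have hqf : q.comp f = carHom m := PresentedGroup.ext fun i => by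
    show q (f (PresentedGroup.of i)) = _
    rw [show f (PresentedGroup.of i) = s i from PresentedGroup.toGroup.of _, carHom_of]
    exact hqF i i.2
  obtain ⟨hcinj, hcrange⟩ := carHom_bijOn m
  refine ⟨f.range, Subgroup.isComplement'_of_disjoint_and_mul_eq_univ ?_
    (Set.eq_univ_of_forall fun g => ?_)⟩
  · rw [Subgroup.disjoint_def]
    rintro _ hk ⟨a, rfl⟩
    have : carHom m a = 1 := by rw [← hqf]; exact hk
    rw [show a = 1 from hcinj (this.trans (map_one _).symm), map_one]
  · obtain ⟨a, ha⟩ : q g ∈ (carHom m).range := by rw [hcrange, ← h.ext.range]; exact ⟨g, rfl⟩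
    refine ⟨g * (f a)⁻¹, ?_, f a, ⟨a, rfl⟩, inv_mul_cancel_right _ _⟩
    rw [SetLike.mem_coe, MonoidHom.mem_ker, map_mul, map_inv, ← ha, ← hqf, MonoidHom.comp_apply,
      mul_inv_cancel]

/-- A perfect double cover does not split. -/
theorem no_complement {n : ℕ} {q : Γ →* Perm (Fin n)} (h : IsDoubleExt q z) (L : Subgroup Γ) :
    ¬ q.ker.IsComplement' L := by
  intro hL
  have hdec : ∀ g, g ∈ L ∨ ∃ l ∈ L, g = z * l := by
    intro g
    obtain ⟨a, ha, b, hb, rfl⟩ : g ∈ (q.ker : Set Γ) * (L : Set Γ) := by rw [hL.mul_eq]; trivial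
    rcases h.ker_le a ha with rfl | rfl
    · exact Or.inl (by simpa using hb)
    · exact Or.inr ⟨b, hb, rfl⟩
  have hcomm : commutator Γ ≤ L := by
    rw [commutator_def, Subgroup.commutator_le]
    intro a _ b _
    have hcen := h.ext.central h.z_mem
    have key : ∀ a : Γ, ∃ a' ∈ L, ∃ w ∈ Subgroup.center Γ, a = w * a' := by
      intro a
      rcases hdec a with ha | ⟨l, hl, e⟩
      · exact ⟨a, ha, 1, one_mem _, (one_mul a).symm⟩
      · exact ⟨l, hl, z, hcen, e⟩
    obtain ⟨a', ha', w, hw, rfl⟩ := key a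
    obtain ⟨b', hb', w', hw', rfl⟩ := key b
    rw [SchurMult.commutatorElement_mul_central hw hw']
    rw [commutatorElement_def]
    exact L.mul_mem (L.mul_mem (L.mul_mem ha' hb') (L.inv_mem ha')) (L.inv_mem hb')
  rw [h.perfect, top_le_iff] at hcomm
  exact h.z_ne (Subgroup.disjoint_def.1 hL.disjoint h.z_mem (hcomm ▸ Subgroup.mem_top z))

theorem lift_sq (h : IsDoubleExt q z) (hn : 2 ≤ n) {x : Γ} (hx : IsDouble (q x)) : x * x = z := by
  rcases h.ker_le (x * x) (by rw [MonoidHom.mem_ker, map_mul, hx.mul_self]) with e | e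
  · obtain ⟨m, rfl⟩ : ∃ m, n = m + 2 := ⟨n - 2, by omega⟩
    obtain ⟨L, hL⟩ := h.exists_complement (fun g hg => (h.sq_eq_sq hg hx).trans e)
    exact absurd hL (h.no_complement L)
  · exact e

/-- Anticommuting lifts. -/
theorem anticomm (h : IsDoubleExt q z) (hn : 2 ≤ n) {x y : Γ} (hx : IsDouble (q x))
    (hy : IsDouble (q y)) (hxy : IsDouble (q x * q y)) : x * y = z * (y * x) := by
  have h1 := h.lift_sq hn hx
  have h2 := h.lift_sq hn hy
  have h3 := h.lift_sq hn (x := x * y) (by rw [map_mul]; exact hxy)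
  calc x * y = (x * y * (x * y)) * ((y⁻¹ * x⁻¹)) := by group
    _ = z * ((y * y)⁻¹ * y * (x * ((x * x)⁻¹))) := by rw [h3]; group
    _ = z * (z⁻¹ * y * (x * z⁻¹)) := by rw [h1, h2]
    _ = z * (y * x) := by
      have hz : z⁻¹ = z := inv_eq_of_mul_eq_one_right h.z_sq
      rw [hz, h.comm_z x, ← mul_assoc (z * y), mul_assoc z y z, h.comm_z y, ← mul_assoc z z,
        h.z_sq, one_mul]

end IsDoubleExt

end CfsgLib.OreCover
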